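import Cfsg.Agent.Lib.Components.CommonDivisor.Link

/-!
The common divisor graph on `cd(G|N)` has at most two components.
-/

set_option autoImplicit false
set_option linter.all false

namespace Cfsg.Agent.Components.CommonDivisor

open Cfsg.Agent.Characters Cfsg.Agent.CharTheory Subgroup

universe u

variable {G : Type u} [Group G] [Fintype G] (N : Subgroup G) [hN : N.Normal] [Fintype N]

/-- Valid linear characters exist for every prime dividing `[N : N']`. -/
theorem exists_valid {r : ℕ} (hr : r.Prime) (hrm : r ∣ (⁅N, N⁆).relIndex N) :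
    ∃ f, Valid N r f := by
  haveI := Fact.mk hr
  haveI := finite_linear N
  have hcard : r ∣ Nat.card (N →* ℂˣ) := by
    rw [card_linear_hom]
    have h1 : (commutator N).map N.subtype = ⁅N, N⁆ := Subgroup.map_subtype_commutator N
    have h2 : (⁅N, N⁆).subgroupOf N = commutator N := by
      rw [← h1]
      exact Subgroup.comap_map_eq_self_of_injective N.subtype_injective _
    rw [Subgroup.relIndex, h2] at hrm
    exact hrm
  obtain ⟨f₀, hf₀⟩ := exists_prime_orderOf_dvd_card' r hcard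
  let V : Subgroup (N →* ℂˣ) := (powMonoidHom r : (N →* ℂˣ) →* (N →* ℂˣ)).ker
  obtain ⟨R⟩ : Nonempty (Sylow r G) := inferInstance
  have hmul : ∀ (g g' : G) (u : N →* ℂˣ), ch N (g * g') u = ch N g' (ch N g u) := fun g g' u =>
    MonoidHom.ext fun n => by simp [ch, mul_assoc]
  letI act : MulAction R V :=
    { smul := fun g u => ⟨ch N ((g : G))⁻¹ (u : N →* ℂˣ), by
        show ch N ((g : G))⁻¹ (u : N →* ℂˣ) ^ r = 1
        rw [← ch_pow, show (u : N →* ℂˣ) ^ r = 1 from u.2]; rfl⟩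
      one_smul := fun u => Subtype.ext (by
        show ch N ((1 : R) : G)⁻¹ (u : N →* ℂˣ) = u
        exact MonoidHom.ext fun n => by simp [ch])
      mul_smul := fun g g' u => Subtype.ext (by
        show ch N ((g * g' : R) : G)⁻¹ (u : N →* ℂˣ) = ch N (g : G)⁻¹ (ch N (g' : G)⁻¹ (u : N →* ℂˣ))
        rw [Subgroup.coe_mul, mul_inv_rev, hmul]) }
  have hV : r ∣ Nat.card V := by
    rw [← hf₀]
    exact V.orderOf_dvd_natCard (show f₀ ^ r = 1 by rw [← hf₀]; exact pow_orderOf_eq_one f₀)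
  obtain ⟨u, hu, hu1⟩ := R.2.exists_fixed_point_of_prime_dvd_card_of_fixed_point V hV (a := 1)
    (fun g => Subtype.ext (MonoidHom.ext fun n => rfl))
  refine ⟨u, u.2, fun h => hu1 (Subtype.ext h.symm), ?_⟩
  have hle : (R : Subgroup G) ≤ inertia N (fn (u : N →* ℂˣ)) := by
    intro g hg
    rw [mem_inertia_fn]
    have h := congrArg Subtype.val (hu ⟨g⁻¹, inv_mem hg⟩)
    change ch N (g⁻¹)⁻¹ (u : N →* ℂˣ) = u at h
    rwa [inv_inv] at h
  exact (hr.coprime_iff_not_dvd.mpr R.not_dvd_index).coprime_dvd_right (index_dvd_of_le hle)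

theorem exists_multiple {f : N →* ℂˣ} (hf : f ≠ 1) :
    ∃ b ∈ Cfsg.relCharDegrees N, (inertia N (fn f)).index ∣ b := by
  obtain ⟨ψ, b, e, d, h⟩ := exists_over N (Cfsg.Agent.Characters.isIrrCharacter_linear f)
    (fun he => hf (fn_injective N (he.trans (funext fun n => by simp [fn]))))
  exact ⟨b, h.mem_relCharDegrees, by rw [h.eq_deg]; exact (dvd_mul_left _ _).mul_right _⟩

variable (hNG : N ≤ commutator G)
include hNG

/-- Two degrees with the same divisibility by `r` are connected. -/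
theorem conn_same {r : ℕ} (hr : r.Prime) (hrm : r ∣ (⁅N, N⁆).relIndex N) {a b : ℕ}
    (ha : a ∈ Cfsg.relCharDegrees N) (hb : b ∈ Cfsg.relCharDegrees N) (h : r ∣ a ↔ r ∣ b) :
    Conn N a b := by
  obtain ⟨f, hf⟩ := exists_valid N hr hrm
  by_cases hra : r ∣ a
  · exact link_of_dvd N ha hb hr.ne_one hra (h.mp hra)
  have hrb : ¬ r ∣ b := fun h' => hra (h.mpr h')
  by_cases hT : (inertia N (fn f)).index = 1
  · obtain ⟨a', ha', hca⟩ := conn_invariant N hNG hr hf hT ha hra
    obtain ⟨b', hb', hcb⟩ := conn_invariant N hNG hr hf hT hb hrb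
    obtain ⟨-, ha'', -⟩ := id hca
    obtain ⟨-, hb'', -⟩ := id hcb
    exact Conn.trans N hca (Conn.trans N (link_of_dvd N ha'' hb'' hr.ne_one ha' hb') (Conn.symm N hcb))
  · obtain ⟨c, hc, htc⟩ := exists_multiple N hf.ne
    exact Conn.trans N (conn_moved N hNG hr hf hT ha hra hc htc)
      (Conn.symm N (conn_moved N hNG hr hf hT hb hrb hc htc))

/-- Disconnected degrees cannot differ in opposite ways at two primes. -/
theorem conn_mixed {r s : ℕ} (hr : r.Prime) (hs : s.Prime) (hrm : r ∣ (⁅N, N⁆).relIndex N)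
    (hsm : s ∣ (⁅N, N⁆).relIndex N) {a b : ℕ} (ha : a ∈ Cfsg.relCharDegrees N)
    (hb : b ∈ Cfsg.relCharDegrees N) (hra : r ∣ a) (hrb : ¬ r ∣ b) (hsb : s ∣ b) (hsa : ¬ s ∣ a) :
    Conn N a b := by
  obtain ⟨f, hf⟩ := exists_valid N hr hrm
  obtain ⟨g, hg⟩ := exists_valid N hs hsm
  by_cases hT : (inertia N (fn f)).index = 1
  · obtain ⟨b', hb', hcb⟩ := conn_invariant N hNG hr hf hT hb hrb
    obtain ⟨-, hb'', -⟩ := id hcb
    exact Conn.trans N (link_of_dvd N ha hb'' hr.ne_one hra hb') (Conn.symm N hcb)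
  by_cases hT' : (inertia N (fn g)).index = 1
  · obtain ⟨a', ha', hca⟩ := conn_invariant N hNG hs hg hT' ha hsa
    obtain ⟨-, ha'', -⟩ := id hca
    exact Conn.trans N hca (link_of_dvd N ha'' hb hs.ne_one ha' hsb)
  -- a degree above `f * g`
  have hrs : r.Coprime s := (Nat.coprime_primes hr hs).mpr fun h => hrb (h ▸ hsb)
  have hne : f * g ≠ 1 := by
    intro h
    apply hf.ne
    refine MonoidHom.ext fun k => ?_
    have h1 : f k * g k = 1 := by rw [← MonoidHom.mul_apply, h]; rfl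
    have hfr : f k ^ r = 1 := by rw [← MonoidHom.pow_apply, hf.pow]; rfl
    have hgs : g k ^ s = 1 := by rw [← MonoidHom.pow_apply, hg.pow]; rfl
    refine (ExtendChar.eq_one_of_pow_coprime hfr ?_ hrs).trans rfl
    rw [eq_inv_of_mul_eq_one_left h1, inv_pow, hgs, inv_one]
  obtain ⟨c, hc, htc⟩ := exists_multiple N hne
  have hle : inertia N (fn (f * g)) ≤ inertia N (fn f) ⊓ inertia N (fn g) := by
    intro x hx
    rw [mem_inertia_fn, ch_mul] at hx
    rw [Subgroup.mem_inf, mem_inertia_fn, mem_inertia_fn]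
    have key : ∀ k, ch N x f k = f k := by
      intro k
      have h1 : ch N x f k * ch N x g k = f k * g k := by
        rw [← MonoidHom.mul_apply, ← MonoidHom.mul_apply, hx]
      have h2 : ∀ u : N →* ℂˣ, ∀ n : ℕ, u ^ n = 1 → u k ^ n = 1 := fun u n hu => by
        rw [← MonoidHom.pow_apply, hu]; rfl
      refine div_eq_one.mp (ExtendChar.eq_one_of_pow_coprime (m := r) (n := s) ?_ ?_ hrs)
      · rw [div_pow, h2 _ r (by rw [← ch_pow, hf.pow]; rfl), h2 _ r hf.pow, div_one]
      · have h3 : ch N x f k / f k = g k / ch N x g k := div_eq_div_iff_mul_eq_mul.mpr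
          (by rw [h1, mul_comm])
        rw [h3, div_pow, h2 _ s hg.pow, h2 _ s (by rw [← ch_pow, hg.pow]; rfl), div_one]
    refine ⟨MonoidHom.ext key, MonoidHom.ext fun k => ?_⟩
    have h1 : ch N x f k * ch N x g k = f k * g k := by
      rw [← MonoidHom.mul_apply, ← MonoidHom.mul_apply, hx]
    rw [key k] at h1
    exact mul_left_cancel h1
  exact Conn.trans N (conn_moved N hNG hs hg hT' ha hsa hc
      ((index_dvd_of_le (hle.trans inf_le_right)).trans htc))
    (Conn.symm N (conn_moved N hNG hr hf hT hb hrb hc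
      ((index_dvd_of_le (hle.trans inf_le_left)).trans htc)))

theorem main (hNp : ⁅N, N⁆ < N) :
    Nat.card (Cfsg.commonDivisorGraph.induce (Cfsg.relCharDegrees N)).ConnectedComponent ≤ 2 ∧
    ∀ (a b : ℕ) (ha : a ∈ Cfsg.relCharDegrees N) (hb : b ∈ Cfsg.relCharDegrees N),
      ¬ (Cfsg.commonDivisorGraph.induce (Cfsg.relCharDegrees N)).Reachable ⟨a, ha⟩ ⟨b, hb⟩ →
      (Nat.Coprime a (⁅N, N⁆.relIndex N) ∧ ∀ r : ℕ, r.Prime → r ∣ ⁅N, N⁆.relIndex N → r ∣ b) ∨
      (Nat.Coprime b (⁅N, N⁆.relIndex N) ∧ ∀ r : ℕ, r.Prime → r ∣ ⁅N, N⁆.relIndex N → r ∣ a) := by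
  classical
  have hm : ⁅N, N⁆.relIndex N ≠ 1 := fun h => hNp.not_ge (relIndex_eq_one.mp h)
  obtain ⟨r₀, hr₀, hr₀m⟩ := Nat.exists_prime_and_dvd hm
  constructor
  · set Γ := Cfsg.commonDivisorGraph.induce (Cfsg.relCharDegrees N)
    have key : ∀ x y : Γ.ConnectedComponent, ∀ z : Γ.ConnectedComponent, x = y ∨ x = z ∨ y = z := by
      intro x y z
      induction x using SimpleGraph.ConnectedComponent.ind with
      | h x =>
        induction y using SimpleGraph.ConnectedComponent.ind with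
        | h y =>
          induction z using SimpleGraph.ConnectedComponent.ind with
          | h z =>
            simp only [SimpleGraph.ConnectedComponent.eq]
            have hc : ∀ u v : Cfsg.relCharDegrees N, (r₀ ∣ u.1 ↔ r₀ ∣ v.1) → Γ.Reachable u v :=
              fun u v h => (conn_same N hNG hr₀ hr₀m u.2 v.2 h).2.2
            by_cases h1 : r₀ ∣ x.1 ↔ r₀ ∣ y.1
            · exact Or.inl (hc _ _ h1)
            by_cases h2 : r₀ ∣ x.1 ↔ r₀ ∣ z.1
            · exact Or.inr (Or.inl (hc _ _ h2))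
            exact Or.inr (Or.inr (hc _ _ (by tauto)))
    by_contra! hgt
    haveI : Finite Γ.ConnectedComponent := Nat.finite_of_card_ne_zero (by omega)
    haveI := Fintype.ofFinite Γ.ConnectedComponent
    rw [Nat.card_eq_fintype_card, Fintype.two_lt_card_iff] at hgt
    obtain ⟨x, y, z, hxy, hxz, hyz⟩ := hgt
    rcases key x y z with h | h | h
    exacts [hxy h, hxz h, hyz h]
  · intro a b ha hb hnr
    have hnc : ¬ Conn N a b := fun h => hnr h.2.2
    have hxor : ∀ r : ℕ, r.Prime → r ∣ ⁅N, N⁆.relIndex N → ¬ (r ∣ a ↔ r ∣ b) :=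
      fun r hr hrm h => hnc (conn_same N hNG hr hrm ha hb h)
    have hcop : ∀ c : ℕ, (∀ r : ℕ, r.Prime → r ∣ ⁅N, N⁆.relIndex N → ¬ r ∣ c) →
        Nat.Coprime c (⁅N, N⁆.relIndex N) := fun c h =>
      Nat.coprime_of_dvd fun r hr hrc hrm => h r hr hrm hrc
    by_cases h₀ : r₀ ∣ a
    · have hall : ∀ r : ℕ, r.Prime → r ∣ ⁅N, N⁆.relIndex N → r ∣ a := by
        intro r hr hrm
        by_contra hra
        exact hnc (conn_mixed N hNG hr₀ hr hr₀m hrm ha hb h₀
          (fun h => hxor r₀ hr₀ hr₀m (by tauto)) (by have := hxor r hr hrm; tauto) hra)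
      exact Or.inr ⟨hcop b fun r hr hrm h => hxor r hr hrm (iff_of_true (hall r hr hrm) h), hall⟩
    · have hall : ∀ r : ℕ, r.Prime → r ∣ ⁅N, N⁆.relIndex N → r ∣ b := by
        intro r hr hrm
        by_contra hrb
        exact hnc (Conn.symm N (conn_mixed N hNG hr₀ hr hr₀m hrm hb ha
          (by have := hxor r₀ hr₀ hr₀m; tauto) h₀ (by have := hxor r hr hrm; tauto) hrb))
      exact Or.inl ⟨hcop a fun r hr hrm h => hxor r hr hrm (iff_of_true h (hall r hr hrm)), hall⟩

end Cfsg.Agent.Components.CommonDivisor
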