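import Mathlib
import Cfsg.Prelude.Def_Blocks
import Cfsg.Prelude.Def_CharExt
import Cfsg.Agent.Lib.CharTheory.ExtendChar

/-!
Determinants of sums of characters and at elements acting by scalars.
-/

set_option autoImplicit false
set_option linter.all false

namespace Cfsg.Agent.Components.CommonDivisor

open Cfsg.Agent.Characters Cfsg.Agent.CharTheory Cfsg.Agent.CharTheory.ExtendChar

universe u

variable {G : Type u} [Group G] [Finite G]

theorem detChar_rep' {V : Type*} [AddCommGroup V] [Module ℂ V] [FiniteDimensional ℂ V]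
    (ρ : Representation ℂ G V) (g : G) : Cfsg.detChar ρ.character g = LinearMap.det (ρ g) := by
  let e := (Module.finBasis ℂ V).equivFun
  rw [Representation.char_iso (transportEquiv e ρ), detChar_of_rep]
  exact LinearMap.det_conj (ρ g) e

theorem detChar_add {χ ψ : G → ℂ} (hχ : Cfsg.IsCharacter G χ) (hψ : Cfsg.IsCharacter G ψ) (g : G) :
    Cfsg.detChar (χ + ψ) g = Cfsg.detChar χ g * Cfsg.detChar ψ g := by
  obtain ⟨n, ρ, rfl⟩ := hχ
  obtain ⟨m, σ, rfl⟩ := hψ
  have h : (ρ.prod σ).character = ρ.character + σ.character := by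
    ext g; exact LinearMap.trace_prodMap' (ρ g) (σ g)
  rw [← h, detChar_rep', detChar_of_rep, detChar_of_rep]
  exact LinearMap.det_prodMap _ _

theorem detChar_nsmul {χ : G → ℂ} (hχ : Cfsg.IsCharacter G χ) (k : ℕ) (g : G) :
    Cfsg.detChar ((k : ℂ) • χ) g = Cfsg.detChar χ g ^ k := by
  induction k with
  | zero =>
    rw [Nat.cast_zero, zero_smul, pow_zero]
    obtain ⟨n, ρ, hρ⟩ := isCharacter_zero (G := G)
    have hn : n = 0 := by
      have := congrFun hρ 1
      rw [ρ.char_one, Module.finrank_fin_fun, Pi.zero_apply] at this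
      exact_mod_cast this
    subst hn
    rw [← hρ, detChar_of_rep]
    have : ρ g = 1 := Subsingleton.elim _ _
    rw [this, map_one]
  | succ k ih =>
    rw [Nat.cast_succ, add_smul, one_smul, detChar_add (isCharacter_natSmul hχ k) hχ, ih, pow_succ]

/-- Where a character takes the value `χ 1 * c` with `‖c‖ = 1` the determinant is `c ^ χ 1`. -/
theorem detChar_scalar {χ : G → ℂ} (hχ : Cfsg.IsCharacter G χ) {g : G} {d : ℕ}
    (hd : χ 1 = (d : ℂ)) {c : ℂ} (hc : ‖c‖ = 1) (h : χ g = (d : ℂ) * c) :
    Cfsg.detChar χ g = c ^ d := by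
  obtain ⟨n, ρ, rfl⟩ := hχ
  have hdn : n = d := by
    rw [ρ.char_one, Module.finrank_fin_fun] at hd
    exact_mod_cast hd
  subst hdn
  obtain ⟨ω, hω⟩ := rep_apply_eq_smul_of_norm_eq ρ g (by
    rw [h, norm_mul, hc, mul_one, Complex.norm_natCast, Module.finrank_fin_fun])
  rw [detChar_of_rep, hω, LinearMap.det_smul, LinearMap.det_id, mul_one, Module.finrank_fin_fun]
  rcases Nat.eq_zero_or_pos n with rfl | hn
  · simp
  · congr 1
    have h1 : ω * (n : ℂ) = (n : ℂ) * c := by
      rw [← h]
      simp [Representation.character, hω]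
    rw [mul_comm] at h1
    exact mul_left_cancel₀ (Nat.cast_ne_zero.mpr hn.ne') h1

end Cfsg.Agent.Components.CommonDivisor
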