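import Cfsg.Agent.Lib.Components.CommonDivisor.Setup

/-!
Degrees prime to `r` are linked to the degrees above a linear character of order `r`.
-/

set_option autoImplicit false
set_option linter.all false

namespace Cfsg.Agent.Components.CommonDivisor

open Cfsg.Agent.Characters Cfsg.Agent.CharTheory Subgroup

universe u

variable {G : Type u} [Group G] (N : Subgroup G) [hN : N.Normal]

/-- Reachability in the common divisor graph on `cd(G|N)`. -/
def Conn (a b : ℕ) : Prop :=
  ∃ (ha : a ∈ Cfsg.relCharDegrees N) (hb : b ∈ Cfsg.relCharDegrees N),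
    (Cfsg.commonDivisorGraph.induce (Cfsg.relCharDegrees N)).Reachable ⟨a, ha⟩ ⟨b, hb⟩

theorem Conn.trans {a b c : ℕ} (h1 : Conn N a b) (h2 : Conn N b c) : Conn N a c := by
  obtain ⟨ha, hb, h1⟩ := h1
  obtain ⟨hb', hc, h2⟩ := h2
  exact ⟨ha, hc, h1.trans h2⟩

theorem Conn.symm {a b : ℕ} (h : Conn N a b) : Conn N b a := by
  obtain ⟨ha, hb, h⟩ := h
  exact ⟨hb, ha, h.symm⟩

theorem link {a b : ℕ} (ha : a ∈ Cfsg.relCharDegrees N) (hb : b ∈ Cfsg.relCharDegrees N)
    (h : 1 < Nat.gcd a b) : Conn N a b := by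
  refine ⟨ha, hb, ?_⟩
  by_cases he : a = b
  · subst he; exact SimpleGraph.Reachable.refl _
  · exact SimpleGraph.Adj.reachable (G := Cfsg.commonDivisorGraph.induce _) ⟨he, h⟩

theorem link_of_dvd {a b k : ℕ} (ha : a ∈ Cfsg.relCharDegrees N) (hb : b ∈ Cfsg.relCharDegrees N)
    (hk : k ≠ 1) (hka : k ∣ a) (hkb : k ∣ b) : Conn N a b := by
  refine link N ha hb ?_
  have h1 : k ∣ Nat.gcd a b := Nat.dvd_gcd hka hkb
  have h2 : Nat.gcd a b ≠ 1 := fun h => hk (Nat.eq_one_of_dvd_one (h ▸ h1))
  have h3 : 0 < a := by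
    obtain ⟨χ, -, he⟩ := ha
    obtain ⟨n, hn, hn'⟩ := irr_one_pos χ.2
    rw [← he, Cfsg.charDegree, hn']; simpa using hn
  have h4 := Nat.gcd_pos_of_pos_left b h3
  omega

/-- A linear character of order `r` whose orbit has size prime to `r`. -/
structure Valid (r : ℕ) (f : N →* ℂˣ) : Prop where
  pow : f ^ r = 1
  ne : f ≠ 1
  coprime : r.Coprime (inertia N (fn f)).index

theorem fn_inv_mul (u : N →* ℂˣ) (η : N → ℂ) : fn u⁻¹ * (fn u * η) = η := funext fun n => by
  show ((u n)⁻¹ : ℂˣ) * ((u n : ℂ) * η n) = η n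
  rw [← mul_assoc, Units.inv_mul, one_mul]

/-- The linear characters of `N` mapping a set of functions onto itself by multiplication. -/
def translators (O : Set (N → ℂ)) : Subgroup (N →* ℂˣ) where
  carrier := {w | (fn w * ·) '' O = O}
  mul_mem' {u v} hu hv := by
    show (fn (u * v) * ·) '' O = O
    have e : (fn (u * v) * ·) = (fn u * ·) ∘ (fn v * ·) := funext fun η => by
      simp only [Function.comp, fn_mul N, mul_assoc]
    rw [e, Set.image_comp, show (fn v * ·) '' O = O from hv]; exact hu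
  one_mem' := by
    show (fn (1 : N →* ℂˣ) * ·) '' O = O
    have e : (fn (1 : N →* ℂˣ) * ·) = (id : (N → ℂ) → (N → ℂ)) := funext fun η => funext fun n => by
      simp [fn]
    rw [e, Set.image_id]
  inv_mem' {u} hu := by
    show (fn u⁻¹ * ·) '' O = O
    conv_lhs => rw [← show (fn u * ·) '' O = O from hu]
    rw [← Set.image_comp]
    have e : (fn u⁻¹ * ·) ∘ (fn u * ·) = (id : (N → ℂ) → (N → ℂ)) := funext fun η => by
      show fn u⁻¹ * (fn u * η) = η
      exact fn_inv_mul N u η
    rw [e, Set.image_id]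

theorem div_mem_translators {O C : Set (N → ℂ)} {u v : N →* ℂˣ} (hu : (fn u * ·) '' O = C)
    (hv : (fn v * ·) '' O = C) : v⁻¹ * u ∈ translators N O := by
  show (fn (v⁻¹ * u) * ·) '' O = O
  have e : (fn (v⁻¹ * u) * ·) = (fn v⁻¹ * ·) ∘ (fn u * ·) := funext fun η => by
    simp only [Function.comp, fn_mul N, mul_assoc]
  rw [e, Set.image_comp, hu, ← hv, ← Set.image_comp]
  have e : (fn v⁻¹ * ·) ∘ (fn v * ·) = (id : (N → ℂ) → (N → ℂ)) := funext fun η => by
    show fn v⁻¹ * (fn v * η) = η
    exact fn_inv_mul N v η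
  rw [e, Set.image_id]

theorem finite_linear [Finite G] : Finite (N →* ℂˣ) :=
  Nat.finite_of_card_ne_zero (by rw [card_linear_hom]; exact index_ne_zero_of_finite)

theorem card_translators_dvd [Finite G] {O : Set (N → ℂ)} (hO : O.Finite) (W : Subgroup (N →* ℂˣ))
    (hW : W ≤ translators N O) (hfree : ∀ w ∈ W, ∀ η ∈ O, fn w * η = η → w = 1) :
    Nat.card W ∣ Nat.card O := by
  haveI := finite_linear N
  haveI := hO.to_subtype
  letI : MulAction W O :=
    { smul := fun w η => ⟨fn (w : N →* ℂˣ) * η.1, (hW w.2).subset ⟨η.1, η.2, rfl⟩⟩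
      one_smul := fun η => Subtype.ext (funext fun n => by
        show fn (1 : N →* ℂˣ) n * η.1 n = η.1 n
        simp [fn])
      mul_smul := fun u v η => Subtype.ext (by
        show fn ((u : N →* ℂˣ) * (v : N →* ℂˣ)) * η.1 = fn (u : N →* ℂˣ) * (fn (v : N →* ℂˣ) * η.1)
        rw [fn_mul N, mul_assoc]) }
  exact card_dvd_of_free fun w η h => Subtype.ext (hfree w w.2 η.1 η.2 (congrArg Subtype.val h))

theorem ne_one_linear [Fintype G] {χ : G → ℂ} {h : N →* ℂˣ} {a e d : ℕ}
    (ho : Over N χ (fn h) a e d) : h ≠ 1 := by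
  rintro rfl
  obtain ⟨x, hx, hne⟩ := ho.ne
  apply hne
  have hd : (d : ℂ) = 1 := by rw [← ho.degθ]; simp [fn]
  have := ho.value N (n := ⟨x, hx⟩) (c := 1) fun g => by
    rw [← fn_ch, hd, one_mul]; simp [ch, fn]
  rw [mul_one] at this
  rw [ho.deg]; exact this

theorem eq_one_of_pow [Finite G] {h : N →* ℂˣ} {m n : ℕ} (hm : h ^ m = 1) (hn : h ^ n = 1)
    (hc : m.Coprime n) : h = 1 :=
  MonoidHom.ext fun k => ExtendChar.eq_one_of_pow_coprime
    (a := h k) (by rw [← MonoidHom.pow_apply, hm]; rfl) (by rw [← MonoidHom.pow_apply, hn]; rfl) hc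

theorem inv_pow_hom {h : N →* ℂˣ} {k : ℕ} (hk : h ^ k = 1) : h⁻¹ ^ k = 1 :=
  MonoidHom.ext fun n => by
    show ((h n)⁻¹) ^ k = 1
    rw [inv_pow, ← MonoidHom.pow_apply, hk]; simp

theorem mul_pow_hom (u v : N →* ℂˣ) (k : ℕ) : (u * v) ^ k = u ^ k * v ^ k := mul_pow u v k

theorem pow_mul_hom (u : N →* ℂˣ) (i j : ℕ) : u ^ (i * j) = (u ^ i) ^ j := pow_mul u i j

theorem one_pow_hom (k : ℕ) : (1 : N →* ℂˣ) ^ k = 1 :=
  MonoidHom.ext fun n => by rw [MonoidHom.pow_apply]; simp

theorem ncard_fn_image (u : N →* ℂˣ) (O : Set (N → ℂ)) : ((fn u * ·) '' O).ncard = O.ncard :=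
  Set.ncard_image_of_injective _ fun x y h =>
    funext fun k => mul_left_cancel₀ (fn_ne_zero u k) (congrFun h k)

theorem one_mul_hom (u : N →* ℂˣ) : 1 * u = u := one_mul u

theorem pow_hom_eq_one {h : N →* ℂˣ} {k : ℕ} (hk : ∀ n, h n ^ k = 1) : h ^ k = 1 :=
  MonoidHom.ext fun n => by rw [MonoidHom.pow_apply]; exact hk n

/-- If the linear character is invariant, a degree prime to `r` is linked to one divisible by
`r`. -/
theorem conn_invariant [Fintype G] [Fintype N] (hNG : N ≤ commutator G) {r : ℕ} (hr : r.Prime)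
    {f : N →* ℂˣ} (hf : Valid N r f) (hT : (inertia N (fn f)).index = 1) {a : ℕ}
    (ha : a ∈ Cfsg.relCharDegrees N) (hra : ¬ r ∣ a) : ∃ b, r ∣ b ∧ Conn N a b := by
  obtain ⟨χ, hne, hdeg⟩ := id ha
  obtain ⟨n, hn0, hn⟩ := irr_one_pos χ.2
  have han : n = a := by rw [← hdeg, Cfsg.charDegree, hn]; simp
  subst han
  obtain ⟨θ, e, d, ho⟩ := exists_constituent_over N χ.2 hn hne
  have hinv : ∀ g : G, ch N g f = f := fun g =>
    fn_injective N (by rw [fn_ch]; exact inertia_index_eq_one N hT g)
  have hnd : d ∣ n := by rw [ho.eq_deg]; exact dvd_mul_left _ _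
  have hrd : r.Coprime d := hr.coprime_iff_not_dvd.mpr fun h => hra (h.trans hnd)
  -- linear constituents
  have hlin : d = 1 → (inertia N θ).index = 1 → ∃ h : N →* ℂˣ, fn h = θ ∧ h ^ n = 1 ∧ h ≠ 1 ∧
      ∀ x, ch N x h = h := by
    intro hd ho1
    obtain ⟨h, rfl⟩ := exists_fn_eq N ho.irrθ (by rw [ho.degθ, hd, Nat.cast_one])
    have hh : ∀ x, ch N x h = h := fun x =>
      fn_injective N (by rw [fn_ch]; exact inertia_index_eq_one N ho1 x)
    exact ⟨h, rfl, pow_hom_eq_one N fun m => ho.pow_eq_one N hNG fun x => by rw [hh],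
      ne_one_linear N ho, hh⟩
  set φ := fn f * θ with hφdef
  have hφ1 : φ ≠ fun _ => 1 := by
    intro he
    have hd : d = 1 := by
      have := congrFun he 1
      simp only [hφdef, Pi.mul_apply, ho.degθ] at this
      have h2 : (d : ℂ) = 1 := by simpa [fn] using this
      exact_mod_cast h2
    obtain ⟨h, rfl⟩ := exists_fn_eq N ho.irrθ (by rw [ho.degθ, hd, Nat.cast_one])
    have hh : h = f⁻¹ := eq_inv_of_mul_eq_one_right (fn_injective N (by
      rw [fn_mul N]; exact he.trans (funext fun m => by simp [fn])))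
    subst hh
    have hpow : f⁻¹ ^ n = 1 := pow_hom_eq_one N fun m => ho.pow_eq_one N hNG fun x => by
      rw [show ch N x f⁻¹ = (ch N x f)⁻¹ from rfl, hinv]
    refine ne_one_linear N ho (eq_one_of_pow N hpow (inv_pow_hom N hf.pow) ?_)
    exact (hr.coprime_iff_not_dvd.mpr hra).symm
  obtain ⟨ψ, b, m, d', hψ⟩ := exists_over N (isIrr_twist N f ho.irrθ) hφ1
  have hI : inertia N φ = inertia N θ := by
    ext g
    rw [mem_inertia, mem_inertia, hφdef, conjBy_twist, hinv]
    exact ⟨fun h => funext fun k => mul_left_cancel₀ (fn_ne_zero f k) (congrFun h k),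
      fun h => by rw [h]⟩
  have hd' : d' = d := by
    have h := hψ.degθ
    rw [Pi.mul_apply, ho.degθ] at h
    have h2 : (d : ℂ) = d' := by simpa [fn] using h
    exact_mod_cast h2.symm
  rw [hd'] at hψ
  have hb := hψ.eq_deg
  rw [hI] at hb
  -- determinants
  have heq : (e : ℂ) • (fun k : N => ψ k) = (m : ℂ) • (fn f * fun k : N => (χ : G → ℂ) k) := by
    funext k
    refine mul_left_cancel₀ (Nat.cast_ne_zero.mpr (Nat.card_pos (α := inertia N θ)).ne' :
      (Nat.card (inertia N θ) : ℂ) ≠ 0) ?_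
    have h1 := congrFun ho.restrict k
    have h2 := congrFun hψ.restrict k
    rw [show inertia N (fn f * θ) = inertia N θ from hI] at h2
    simp only [Pi.smul_apply, Finset.sum_apply, smul_eq_mul, Pi.mul_apply] at h1 h2 ⊢
    have h3 : ∑ x : G, Clifford.conjBy N x (fn f * θ) k =
        fn f k * ∑ x : G, Clifford.conjBy N x θ k := by
      rw [Finset.mul_sum]
      refine Finset.sum_congr rfl fun x _ => ?_
      rw [conjBy_twist, hinv]; rfl
    rw [h3] at h2
    calc (Nat.card (inertia N θ) : ℂ) * ((e : ℂ) * ψ k)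
        = (e : ℂ) * ((Nat.card (inertia N θ) : ℂ) * ψ k) := by ring
      _ = (m : ℂ) * fn f k * ((e : ℂ) * ∑ x : G, Clifford.conjBy N x θ k) := by rw [h2]; ring
      _ = _ := by rw [← h1]; ring
  have hfam : f ^ (n * m) = 1 := pow_hom_eq_one N fun k => by
    have h1 := congrArg (fun F => Cfsg.detChar F k) heq
    have hrc := isCharacter_restrict N (isCharacter_of_isIrr ho.irr)
    rw [detChar_nsmul (isCharacter_restrict N (isCharacter_of_isIrr hψ.irr)),
      detChar_nsmul (isCharacter_mul (isCharacter_linear f) hrc),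
      detChar_twist N f hrc (d := n) (by exact hn),
      ← ExtendChar.detChar_restrict N (isCharacter_of_isIrr hψ.irr) (fun _ => rfl),
      ← ExtendChar.detChar_restrict N (isCharacter_of_isIrr ho.irr) (fun _ => rfl),
      detChar_eq_one N hNG (isCharacter_of_isIrr hψ.irr),
      detChar_eq_one N hNG (isCharacter_of_isIrr ho.irr), one_pow, mul_one, ← pow_mul] at h1
    exact Units.ext (by rw [Units.val_pow_eq_pow_val, Units.val_one]; exact h1.symm)
  have hrm : r ∣ m := by
    have h1 : r ∣ n * m := by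
      by_contra h
      exact hf.ne (eq_one_of_pow N hf.pow hfam (hr.coprime_iff_not_dvd.mpr h))
    exact (hr.dvd_mul.mp h1).resolve_left hra
  have hrb : r ∣ b := by rw [hb, mul_assoc]; exact hrm.mul_right _
  refine ⟨b, hrb, ?_⟩
  by_contra hnc
  have hcop : n.Coprime b := by
    by_contra h
    exact hnc (link_of_dvd N ha hψ.mem_relCharDegrees h (Nat.gcd_dvd_left _ _) (Nat.gcd_dvd_right _ _))
  have hone : (inertia N θ).index * d = 1 := Nat.eq_one_of_dvd_coprimes hcop
    (by rw [ho.eq_deg, mul_assoc]; exact dvd_mul_left _ _)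
    (by rw [hb, mul_assoc]; exact dvd_mul_left _ _)
  obtain ⟨ho1, hd1⟩ := mul_eq_one.mp hone
  obtain ⟨h, rfl, hhn, hh1, hh⟩ := hlin hd1 ho1
  have hψ' : Over N ψ (fn (f * h)) b m d := by rw [fn_mul N]; exact hψ
  have hfh : (f * h) ^ b = 1 := pow_hom_eq_one N fun k => hψ'.pow_eq_one N hNG fun x => by
    rw [ch_mul, hinv, hh]
  apply hh1
  refine eq_one_of_pow N hhn (n := r * b) ?_ ((hr.coprime_iff_not_dvd.mpr hra).symm.mul_right hcop)
  calc h ^ (r * b) = (f * h) ^ (r * b) := by
        rw [mul_pow_hom, pow_mul_hom N f, hf.pow, one_pow_hom, one_mul_hom]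
    _ = 1 := by rw [mul_comm r b, pow_mul_hom, hfh, one_pow_hom]

/-- If the linear character is not invariant, a degree prime to `r` is linked to all multiples of
the size of its orbit. -/
theorem conn_moved [Fintype G] [Fintype N] (hNG : N ≤ commutator G) {r : ℕ} (hr : r.Prime)
    {f : N →* ℂˣ} (hf : Valid N r f) (hT : (inertia N (fn f)).index ≠ 1) {a b₀ : ℕ}
    (ha : a ∈ Cfsg.relCharDegrees N) (hra : ¬ r ∣ a) (hb₀ : b₀ ∈ Cfsg.relCharDegrees N)
    (htb : (inertia N (fn f)).index ∣ b₀) : Conn N a b₀ := by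
  classical
  set T := inertia N (fn f) with hTdef
  set t := T.index with htdef
  by_cases hat : a.Coprime t
  swap
  · exact link_of_dvd N ha hb₀ hat (Nat.gcd_dvd_left _ _) ((Nat.gcd_dvd_right _ _).trans htb)
  obtain ⟨χ, hne, hdeg⟩ := id ha
  obtain ⟨n, hn0, hn⟩ := irr_one_pos χ.2
  have han : n = a := by rw [← hdeg, Cfsg.charDegree, hn]; simp
  subst han
  obtain ⟨θ, e, d, ho⟩ := exists_constituent_over N χ.2 hn hne
  set I := inertia N θ with hIdef
  set o := I.index with hodef
  have hnd : d ∣ n := by rw [ho.eq_deg]; exact dvd_mul_left _ _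
  have hon : o ∣ n := by rw [ho.eq_deg]; exact (dvd_mul_left _ _).mul_right _
  have hrd : r.Coprime d := hr.coprime_iff_not_dvd.mpr fun h => hra (h.trans hnd)
  have hot : o.Coprime t := hat.coprime_dvd_left hon
  set J := I ⊓ T with hJdef
  have hJ : J.index = o * t := le_antisymm index_inf_le
    (Nat.le_of_dvd (Nat.pos_of_ne_zero index_ne_zero_of_finite)
      (hot.mul_dvd_of_dvd_of_dvd (index_dvd_of_le inf_le_left) (index_dvd_of_le inf_le_right)))
  -- all pairs of conjugates are conjugate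
  set Oθ := Set.range fun g => Clifford.conjBy N g θ with hOθ
  set Of := Set.range fun g => Clifford.conjBy N g (fn f) with hOf
  have hpair : ∀ g₁ g₂ : G, ∃ k : G, Clifford.conjBy N k θ = Clifford.conjBy N g₁ θ ∧
      Clifford.conjBy N k (fn f) = Clifford.conjBy N g₂ (fn f) := by
    intro g₁ g₂
    have hr1 : Nat.card (Set.range fun g =>
        (Clifford.conjBy N g θ, Clifford.conjBy N g (fn f))) = o * t := by
      rw [← hJ]
      refine card_range_eq_index _ _ fun g h => ?_
      rw [Prod.mk.injEq, conjBy_eq_iff, conjBy_eq_iff, hJdef, Subgroup.mem_inf]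
    have hsub : (Set.range fun g => (Clifford.conjBy N g θ, Clifford.conjBy N g (fn f))) ⊆
        Oθ ×ˢ Of := by rintro _ ⟨g, rfl⟩; exact ⟨⟨g, rfl⟩, g, rfl⟩
    have heq := Set.eq_of_subset_of_ncard_le hsub (by
      rw [Set.ncard_prod, ← Nat.card_coe_set_eq, ← Nat.card_coe_set_eq, ← Nat.card_coe_set_eq,
        hr1, card_orbit, card_orbit])
      ((Set.finite_range _).prod (Set.finite_range _))
    obtain ⟨k, hk⟩ := heq.ge (show (Clifford.conjBy N g₁ θ, Clifford.conjBy N g₂ (fn f)) ∈ Oθ ×ˢ Of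
      from ⟨⟨g₁, rfl⟩, g₂, rfl⟩)
    simp only [Prod.mk.injEq] at hk
    exact ⟨k, hk⟩
  set φ := fn f * θ with hφdef
  have hφirr := isIrr_twist N f ho.irrθ
  have hφd : φ 1 = (d : ℂ) := by
    rw [hφdef, Pi.mul_apply, ho.degθ]; simp [fn]
  have hφ1 : φ ≠ fun _ => 1 := by
    intro he
    have hIT : I = T := by
      have hmul : ∀ k, fn f k * θ k = 1 := fun k => congrFun he k
      ext g
      rw [mem_inertia, mem_inertia]
      have hm2 : ∀ k, Clifford.conjBy N g (fn f) k * Clifford.conjBy N g θ k = 1 := fun k =>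
        congrFun (congrArg (Clifford.conjBy N g) he) k
      constructor
      · intro h
        funext k
        have h1 := hm2 k
        rw [h] at h1
        exact mul_right_cancel₀ (right_ne_zero_of_mul_eq_one (hmul k)) (h1.trans (hmul k).symm)
      · intro h
        funext k
        have h1 := hm2 k
        rw [h] at h1
        exact mul_left_cancel₀ (fn_ne_zero f k) (h1.trans (hmul k).symm)
    have h1 : o = t := by rw [hodef, hIT]
    rw [h1, Nat.coprime_self] at hot
    exact hT hot
  obtain ⟨ψ, b, m, d', hψ⟩ := exists_over N hφirr hφ1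
  have hd' : d' = d := by
    have h := hψ.degθ.symm.trans hφd
    exact_mod_cast h
  rw [hd'] at hψ
  set Sf := inertia N φ with hSfdef
  set o' := Sf.index with ho'def
  have hJS : J ≤ Sf := by
    rintro g ⟨hg1, hg2⟩
    rw [mem_inertia, hφdef, conjBy_mul, (mem_inertia N).mp hg1, (mem_inertia N).mp hg2]
  have ho't : o' ∣ o * t := hJ ▸ index_dvd_of_le hJS
  have hST : Sf ⊓ T ≤ J := by
    rintro g ⟨hg1, hg2⟩
    refine ⟨(mem_inertia N).mpr ?_, hg2⟩
    have h := (mem_inertia N).mp hg1
    rw [hφdef, conjBy_mul, (mem_inertia N).mp hg2] at h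
    exact funext fun k => mul_left_cancel₀ (fn_ne_zero f k) (congrFun h k)
  have hSI : Sf ⊓ I ≤ J := by
    rintro g ⟨hg1, hg2⟩
    refine ⟨hg2, (mem_inertia_fn N).mpr ?_⟩
    have h := (mem_inertia N).mp hg1
    rw [hφdef, conjBy_twist, (mem_inertia N).mp hg2] at h
    exact twist_cancel N (by rw [← ch_pow, hf.pow]; rfl) hf.pow (isCharacter_of_isIrr ho.irrθ)
      ho.degθ hrd h
  have hoo' : o ≤ o' := by
    have h1 : o * t ≤ o' * t := hJ ▸ (Nat.le_of_dvd (Nat.pos_of_ne_zero index_ne_zero_of_finite)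
      (index_dvd_of_le hST)).trans index_inf_le
    exact Nat.le_of_mul_le_mul_right h1 (Nat.pos_of_ne_zero index_ne_zero_of_finite)
  have hto' : t ≤ o' := by
    have h1 : o * t ≤ o' * o := hJ ▸ (Nat.le_of_dvd (Nat.pos_of_ne_zero index_ne_zero_of_finite)
      (index_dvd_of_le hSI)).trans index_inf_le
    rw [mul_comm o' o] at h1
    exact Nat.le_of_mul_le_mul_left h1 (Nat.pos_of_ne_zero index_ne_zero_of_finite)
  have hb := hψ.eq_deg
  -- products of conjugates are conjugates of the product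
  have hprod : ∀ g₁ g₂ : G, Clifford.conjBy N g₂ (fn f) * Clifford.conjBy N g₁ θ ∈
      Set.range fun g => Clifford.conjBy N g φ := by
    intro g₁ g₂
    obtain ⟨k, hk1, hk2⟩ := hpair g₁ g₂
    exact ⟨k, by show Clifford.conjBy N k φ = _; rw [hφdef, conjBy_mul, hk1, hk2]⟩
  by_cases hot' : o'.Coprime t
  · -- the translation argument on the orbit of `θ`
    exfalso
    have ho'o : o' = o :=
      le_antisymm (Nat.le_of_dvd (Nat.pos_of_ne_zero index_ne_zero_of_finite)
        (hot'.dvd_of_dvd_mul_right ho't)) hoo'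
    haveI := finite_linear N
    set W := translators N Oθ ⊓ (powMonoidHom r : (N →* ℂˣ) →* (N →* ℂˣ)).ker with hW
    have hWdvd : Nat.card W ∣ o := by
      rw [hodef, hIdef, ← card_orbit N θ]
      refine card_translators_dvd N (Set.finite_range _) W inf_le_left ?_
      rintro w hw η ⟨g, rfl⟩ he
      refine twist_cancel N (MonoidHom.mem_ker.mp hw.2) (one_pow_hom N r)
        (Clifford.isCharacter_conjBy N g (isCharacter_of_isIrr ho.irrθ))
        (d := d) (by rw [Clifford.conjBy_at_one, ho.degθ]) hrd ?_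
      rw [he]; funext k; simp [fn]
    have himg : ∀ g : G, (fn (ch N g f) * ·) '' Oθ = Set.range fun x => Clifford.conjBy N x φ := by
      intro g
      refine Set.eq_of_subset_of_ncard_le ?_ ?_ (Set.finite_range _)
      · rintro _ ⟨_, ⟨g₁, rfl⟩, rfl⟩
        show fn (ch N g f) * Clifford.conjBy N g₁ θ ∈ _
        rw [fn_ch]; exact hprod g₁ g
      · rw [ncard_fn_image N, ← Nat.card_coe_set_eq,
          ← Nat.card_coe_set_eq, card_orbit, card_orbit]
        exact ho'o.le
    obtain ⟨g, hg⟩ : ∃ g : G, g ∉ T := by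
      by_contra! h
      exact hT (index_eq_one.mpr (eq_top_iff.mpr fun g _ => h g))
    have hwW : (ch N 1 f)⁻¹ * ch N g f ∈ W := by
      refine ⟨div_mem_translators N (himg g) (himg 1), MonoidHom.mem_ker.mpr ?_⟩
      show ((ch N 1 f)⁻¹ * ch N g f) ^ r = 1
      have hr' : ∀ x, ch N x f ^ r = 1 := fun x => by rw [← ch_pow, hf.pow]; rfl
      rw [mul_pow_hom, inv_pow_hom N (hr' 1), hr' g]
      exact MonoidHom.ext fun k => by rw [MonoidHom.mul_apply]; simp
    have hw1 : (ch N 1 f)⁻¹ * ch N g f ≠ 1 := by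
      intro h
      apply hg
      have h' : ch N 1 f = ch N g f := inv_mul_eq_one.mp (by exact h)
      rw [hTdef, mem_inertia, ← fn_ch, ← h', fn_ch, Clifford.conjBy_one]
    have hrW : r ∣ Nat.card W := by
      have h1 : orderOf ((ch N 1 f)⁻¹ * ch N g f) = r :=
        (Nat.dvd_prime hr).mp (orderOf_dvd_of_pow_eq_one (MonoidHom.mem_ker.mp hwW.2))
          |>.resolve_left fun h => hw1 (orderOf_eq_one_iff.mp h)
      rw [← h1]
      exact W.orderOf_dvd_natCard hwW
    exact hra (hrW.trans (hWdvd.trans hon))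
  · have hbt : Conn N b b₀ := link_of_dvd N hψ.mem_relCharDegrees hb₀ hot'
      ((Nat.gcd_dvd_left _ _).trans (by rw [hb]; exact (dvd_mul_left _ _).mul_right _))
      ((Nat.gcd_dvd_right _ _).trans htb)
    refine Conn.trans N ?_ hbt
    by_contra hnc
    have hcop : n.Coprime b := by
      by_contra h
      exact hnc (link_of_dvd N ha hψ.mem_relCharDegrees h (Nat.gcd_dvd_left _ _)
        (Nat.gcd_dvd_right _ _))
    have hd1 : d = 1 := Nat.eq_one_of_dvd_coprimes hcop hnd (by rw [hb]; exact dvd_mul_left _ _)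
    have hoo'c : o.Coprime o' := (hcop.coprime_dvd_left hon).coprime_dvd_right
      (by rw [hb]; exact (dvd_mul_left _ _).mul_right _)
    have ho't' : o' = t :=
      le_antisymm (Nat.le_of_dvd (Nat.pos_of_ne_zero index_ne_zero_of_finite)
        (hoo'c.symm.dvd_of_dvd_mul_left ho't)) hto'
    obtain ⟨h, rfl⟩ := exists_fn_eq N ho.irrθ (by rw [ho.degθ, hd1, Nat.cast_one])
    have hrn : (r.Coprime n) := hr.coprime_iff_not_dvd.mpr hra
    by_cases ho1 : o = 1
    · have hh : ∀ x, ch N x h = h := fun x =>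
        fn_injective N (by rw [fn_ch]; exact inertia_index_eq_one N ho1 x)
      have hhn : h ^ n = 1 := pow_hom_eq_one N fun k => ho.pow_eq_one N hNG fun x => by rw [hh]
      have hψ' : Over N ψ (fn (f * h)) b m d := by rw [fn_mul N]; exact hψ
      have hfr : ∀ (u : N →* ℂˣ), u ^ r = 1 → ∀ k, u (k ^ r) = 1 := fun u hu k => by
        rw [map_pow, ← MonoidHom.pow_apply, hu, MonoidHom.one_apply]
      have hhb : h ^ (r * b) = 1 := pow_hom_eq_one N fun k => by
        have h1 := hψ'.pow_eq_one N hNG (n := k ^ r) fun x => by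
          rw [ch_mul, hh, MonoidHom.mul_apply, MonoidHom.mul_apply,
            hfr _ (by rw [← ch_pow, hf.pow]; rfl), hfr f hf.pow]
        rw [MonoidHom.mul_apply, hfr f hf.pow, one_mul, map_pow, ← pow_mul] at h1
        exact h1
      exact ne_one_linear N ho (eq_one_of_pow N hhn hhb (hrn.symm.mul_right hcop))
    · -- the translation argument on the orbit of `f`
      haveI := finite_linear N
      set W := translators N Of with hW
      have hWdvd : Nat.card W ∣ t := by
        rw [htdef, hTdef, ← card_orbit N (fn f)]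
        refine card_translators_dvd N (Set.finite_range _) W le_rfl ?_
        rintro w hw η ⟨g, rfl⟩ he
        refine fn_injective N (funext fun k => ?_)
        have h1 : fn w k * fn (ch N g f) k = fn (ch N g f) k := by
          rw [fn_ch]; exact congrFun he k
        rw [mul_eq_right₀ (fn_ne_zero _ k)] at h1
        rw [h1]; simp [fn]
      have himg : ∀ g : G, (fn (ch N g h) * ·) '' Of =
          Set.range fun x => Clifford.conjBy N x φ := by
        intro g
        refine Set.eq_of_subset_of_ncard_le ?_ ?_ (Set.finite_range _)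
        · rintro _ ⟨_, ⟨g₂, rfl⟩, rfl⟩
          show fn (ch N g h) * Clifford.conjBy N g₂ (fn f) ∈ _
          rw [fn_ch, mul_comm]; exact hprod g g₂
        · rw [ncard_fn_image N, ← Nat.card_coe_set_eq,
            ← Nat.card_coe_set_eq, card_orbit, card_orbit]
          exact ho't'.le
      set s := Nat.card W with hs
      have hch1 : ch N 1 h = h := fn_injective N (by rw [fn_ch, Clifford.conjBy_one])
      have hinvs : ∀ g : G, ch N g (h ^ s) = h ^ s := by
        intro g
        have h1 : ((ch N 1 h)⁻¹ * ch N g h) ^ s = 1 :=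
          orderOf_dvd_iff_pow_eq_one.mp
            (W.orderOf_dvd_natCard (div_mem_translators N (himg g) (himg 1)))
        rw [hch1, mul_pow_hom] at h1
        rw [ch_pow]
        refine MonoidHom.ext fun k => ?_
        have h2 := congrArg (fun u : N →* ℂˣ => u k) h1
        simp only [MonoidHom.mul_apply, MonoidHom.pow_apply, MonoidHom.inv_apply,
          MonoidHom.one_apply, inv_pow] at h2
        rw [MonoidHom.pow_apply, MonoidHom.pow_apply]
        exact (inv_mul_eq_one.mp h2).symm
      have hhs : h ^ (s * n) = 1 := pow_hom_eq_one N fun k => by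
        have h1 := ho.pow_eq_one N hNG (n := k ^ s) fun x => by
          rw [map_pow, map_pow, ← MonoidHom.pow_apply, ← MonoidHom.pow_apply, ← ch_pow, hinvs]
        rw [map_pow, ← pow_mul] at h1
        exact h1
      have hsr : r.Coprime (s * n) := (hf.coprime.coprime_dvd_right hWdvd).mul_right hrn
      -- so `Sf` fixes `h`
      have hle : Sf ≤ I := by
        intro g hg
        rw [hIdef, mem_inertia_fn]
        have h1 : ch N g f * ch N g h = f * h := fn_injective N (by
          rw [fn_mul N, fn_mul N]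
          have h2 := (mem_inertia N).mp hg
          rw [hφdef, conjBy_twist, ← fn_ch] at h2
          exact h2)
        have h2 := congrArg (· ^ r) h1
        have h3 : ch N g (h ^ r) = h ^ r := by
          have e : ch N g (1 : N →* ℂˣ) = 1 := rfl
          change (ch N g f * ch N g h) ^ r = (f * h) ^ r at h2
          rwa [mul_pow_hom, mul_pow_hom, ← ch_pow, ← ch_pow, hf.pow, e, one_mul_hom,
            one_mul_hom] at h2
        refine MonoidHom.ext fun k => div_eq_one.mp
          (ExtendChar.eq_one_of_pow_coprime (m := r) (n := s * n) ?_ ?_ hsr)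
        · rw [div_pow, ← MonoidHom.pow_apply, ← MonoidHom.pow_apply, ← ch_pow, h3, div_self']
        · rw [div_pow, ← MonoidHom.pow_apply, ← MonoidHom.pow_apply, ← ch_pow, hhs]
          simp [ch]
      apply ho1
      have h6 : o ∣ o' := index_dvd_of_le hle
      exact Nat.eq_one_of_dvd_coprimes hoo'c dvd_rfl h6

end Cfsg.Agent.Components.CommonDivisor
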