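import Mathlib

/-!
Orbits given by functions on a group, and freely acting translation groups.
-/

set_option autoImplicit false
set_option linter.all false

namespace Cfsg.Agent.Components.CommonDivisor

variable {G : Type*} [Group G] [Finite G]

/-- The number of values of a function separating exactly the right cosets of `H` is the index. -/
theorem card_range_eq_index {Y : Type*} (H : Subgroup G) (F : G → Y)
    (hF : ∀ g h : G, F g = F h ↔ g * h⁻¹ ∈ H) : Nat.card (Set.range F) = H.index := by
  have hF' : ∀ g h : G, F g⁻¹ = F h⁻¹ ↔ g⁻¹ * h ∈ H := fun g h => by rw [hF, inv_inv]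
  let f : G ⧸ H → Set.range F := Quotient.lift (fun g => ⟨F g⁻¹, g⁻¹, rfl⟩) fun a b hab =>
    Subtype.ext ((hF' a b).mpr (QuotientGroup.leftRel_apply.mp hab))
  refine (Nat.card_congr (Equiv.ofBijective f ⟨?_, ?_⟩)).symm
  · intro a b
    induction a using QuotientGroup.induction_on with
    | H a =>
      induction b using QuotientGroup.induction_on with
      | H b => exact fun he => QuotientGroup.eq.mpr ((hF' a b).mp (congrArg Subtype.val he))
  · rintro ⟨y, g, rfl⟩
    exact ⟨(g⁻¹ : G), Subtype.ext (by show F g⁻¹⁻¹ = _; rw [inv_inv])⟩

/-- The order of a finite group acting freely on a finite set divides the size of the set. -/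
theorem card_dvd_of_free {W X : Type*} [Group W] [Finite W] [MulAction W X] [Finite X]
    (h : ∀ (w : W) (x : X), w • x = x → w = 1) : Nat.card W ∣ Nat.card X := by
  rw [Nat.card_congr (MulAction.selfEquivOrbitsQuotientProd' (G := W) (X := X)
    (φ := Quotient.out) Quotient.out_eq' fun b => (Subgroup.eq_bot_iff_forall _).mpr fun w hw =>
      h w b hw), Nat.card_prod]
  exact dvd_mul_left _ _

end Cfsg.Agent.Components.CommonDivisor
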