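import Cfsg.Prelude.Def_DegreeGraph
import Cfsg.Agent.Lib.Components.CommonDivisor.Det
import Cfsg.Agent.Lib.Components.CommonDivisor.Orbit
import Cfsg.Agent.Lib.CharTheory.Clifford
import Cfsg.Agent.Lib.CharTheory.Basics
import Cfsg.Agent.Lib.Characters.Kernel
import Cfsg.Agent.BlocksChars.IsaacsOdd.InvCase
import Cfsg.Agent.BlocksChars.IsaacsOdd.Orbit

/-!
Linear twists of characters of a normal subgroup, inertia groups, characters lying over them.
-/

set_option autoImplicit false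
set_option linter.all false

namespace Cfsg.Agent.Components.CommonDivisor

open Cfsg.Agent.Characters Cfsg.Agent.CharTheory Subgroup

universe u

variable {G : Type u} [Group G] (N : Subgroup G) [hN : N.Normal]

/-- A linear character as a function. -/
abbrev fn {N : Subgroup G} (f : N →* ℂˣ) : N → ℂ := fun n => (f n : ℂ)

/-- The conjugate of a linear character. -/
def ch (g : G) (f : N →* ℂˣ) : N →* ℂˣ := f.comp (MulAut.conjNormal g : N ≃* N).toMonoidHom

theorem fn_ch (g : G) (f : N →* ℂˣ) : fn (ch N g f) = Clifford.conjBy N g (fn f) := by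
  rw [Clifford.conjBy_eq_comp]; rfl

theorem fn_ne_zero {N : Subgroup G} (f : N →* ℂˣ) (n : N) : fn f n ≠ 0 := (f n).ne_zero

theorem fn_injective : Function.Injective (fn (N := N)) := fun f f' h =>
  MonoidHom.ext fun n => Units.ext (congrFun h n)

theorem conjBy_mul (g : G) (a b : N → ℂ) :
    Clifford.conjBy N g (a * b) = Clifford.conjBy N g a * Clifford.conjBy N g b := rfl

theorem conjBy_twist (g : G) (f : N →* ℂˣ) (θ : N → ℂ) :
    Clifford.conjBy N g (fn f * θ) = fn (ch N g f) * Clifford.conjBy N g θ := by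
  rw [fn_ch]; rfl

theorem ch_mul (g : G) (f f' : N →* ℂˣ) : ch N g (f * f') = ch N g f * ch N g f' := rfl

theorem ch_pow (g : G) (f : N →* ℂˣ) (k : ℕ) : ch N g (f ^ k) = ch N g f ^ k :=
  MonoidHom.ext fun n => rfl

/-- The inertia group. -/
def inertia (θ : N → ℂ) : Subgroup G where
  carrier := {g | Clifford.conjBy N g θ = θ}
  mul_mem' {g h} hg hh := by
    show Clifford.conjBy N (g * h) θ = θ
    rw [← Clifford.conjBy_conjBy, show Clifford.conjBy N g θ = θ from hg]; exact hh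
  one_mem' := Clifford.conjBy_one N θ
  inv_mem' {g} hg := by
    show Clifford.conjBy N g⁻¹ θ = θ
    refine Clifford.conjBy_injective N g ?_
    rw [Clifford.conjBy_conjBy, inv_mul_cancel, Clifford.conjBy_one]
    exact hg.symm

theorem mem_inertia {θ : N → ℂ} {g : G} : g ∈ inertia N θ ↔ Clifford.conjBy N g θ = θ := Iff.rfl

theorem mem_inertia_fn {f : N →* ℂˣ} {g : G} : g ∈ inertia N (fn f) ↔ ch N g f = f := by
  rw [mem_inertia, ← fn_ch]
  exact (fn_injective N).eq_iff

theorem conjBy_eq_iff {θ : N → ℂ} {g h : G} :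
    Clifford.conjBy N g θ = Clifford.conjBy N h θ ↔ g * h⁻¹ ∈ inertia N θ := by
  constructor
  · intro he
    refine Clifford.conjBy_injective N h ?_
    rw [Clifford.conjBy_conjBy, inv_mul_cancel_right, he]
  · intro hm
    have h' := congrArg (Clifford.conjBy N h) (show Clifford.conjBy N (g * h⁻¹) θ = θ from hm)
    rwa [Clifford.conjBy_conjBy, inv_mul_cancel_right] at h'

theorem card_orbit [Finite G] (θ : N → ℂ) :
    Nat.card (Set.range fun g => Clifford.conjBy N g θ) = (inertia N θ).index :=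
  card_range_eq_index _ _ fun g h => conjBy_eq_iff N

theorem inertia_index_eq_one [Finite G] {θ : N → ℂ} (h : (inertia N θ).index = 1) (g : G) :
    Clifford.conjBy N g θ = θ := by
  rw [index_eq_one] at h
  exact (mem_inertia N).mp (h ▸ mem_top g)

theorem isIrr_twist [Finite G] (f : N →* ℂˣ) {θ : N → ℂ} (hθ : Cfsg.IsIrrCharacter N θ) :
    Cfsg.IsIrrCharacter N (fn f * θ) := by
  haveI := Fintype.ofFinite N
  rw [mul_comm]
  exact Basics.isIrr_mul_linear hθ (isCharacter_linear f) (by simp [fn])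

theorem fn_mul (f f' : N →* ℂˣ) : fn (f * f') = fn f * fn f' :=
  funext fun n => Units.val_mul _ _

theorem detChar_twist [Finite G] (f : N →* ℂˣ) {θ : N → ℂ} (hθ : Cfsg.IsCharacter N θ) {d : ℕ}
    (hd : θ 1 = (d : ℂ)) (n : N) :
    Cfsg.detChar (fn f * θ) n = (fn f n) ^ d * Cfsg.detChar θ n :=
  ExtendChar.detChar_mul_linear hθ (isCharacter_linear f) (by simp [fn]) hd n

theorem detChar_ne_zero [Finite G] {θ : N → ℂ} (hθ : Cfsg.IsCharacter N θ) (n : N) :
    Cfsg.detChar θ n ≠ 0 := by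
  obtain ⟨h1, h2⟩ := ExtendChar.detChar_isLinear hθ
  obtain ⟨f, hf⟩ := ExtendChar.exists_hom h1 h2
  rw [← hf]; exact (f n).ne_zero

/-- A linear character of exponent `r` is determined by its twist of a character of degree prime
to `r`. -/
theorem twist_cancel [Finite G] {r : ℕ} {f f' : N →* ℂˣ} (hf : f ^ r = 1) (hf' : f' ^ r = 1)
    {θ : N → ℂ} (hθ : Cfsg.IsCharacter N θ) {d : ℕ} (hd : θ 1 = (d : ℂ)) (hrd : r.Coprime d)
    (h : fn f * θ = fn f' * θ) : f = f' := by
  refine MonoidHom.ext fun n => ?_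
  have h1 := congrArg (fun F => Cfsg.detChar F n) h
  simp only [detChar_twist N _ hθ hd] at h1
  have h2 : f n ^ d = f' n ^ d := Units.ext (by
    simpa [fn] using mul_right_cancel₀ (detChar_ne_zero N hθ n) h1)
  have h3 : ∀ (e : N →* ℂˣ), e ^ r = 1 → e n ^ r = 1 := fun e he => by
    rw [← MonoidHom.pow_apply, he, MonoidHom.one_apply]
  rw [← div_eq_one]
  refine ExtendChar.eq_one_of_pow_coprime (m := r) (n := d) ?_ ?_ hrd
  · rw [div_pow, h3 f hf, h3 f' hf', div_one]
  · rw [div_pow, h2, div_self']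

/-- Degree one characters are linear characters. -/
theorem exists_fn_eq [Finite G] {θ : N → ℂ} (hθ : Cfsg.IsIrrCharacter N θ) (h1 : θ 1 = 1) :
    ∃ f : N →* ℂˣ, fn f = θ := by
  obtain ⟨f, hf⟩ := ExtendChar.exists_hom (isCharacter_of_isIrr hθ) h1
  exact ⟨f, funext hf⟩

/-- The data of a character `χ` of `G` over `θ`. -/
structure Over [Fintype G] (χ : G → ℂ) (θ : N → ℂ) (a e d : ℕ) : Prop where
  irr : Cfsg.IsIrrCharacter G χ
  irrθ : Cfsg.IsIrrCharacter N θ
  deg : χ 1 = (a : ℂ)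
  degθ : θ 1 = (d : ℂ)
  ne : ∃ x ∈ N, χ x ≠ χ 1
  eq_deg : a = e * (inertia N θ).index * d
  restrict : (Nat.card (inertia N θ) : ℂ) • (fun n : N => χ n) =
    (e : ℂ) • ∑ x : G, Clifford.conjBy N x θ

theorem card_G_ne_zero [Finite G] : (Nat.card G : ℂ) ≠ 0 := Nat.cast_ne_zero.mpr Nat.card_pos.ne'

theorem over_of [Fintype G] [Fintype N] {χ : G → ℂ} {θ : N → ℂ} {a : ℕ}
    (hχ : Cfsg.IsIrrCharacter G χ) (hθ : Cfsg.IsIrrCharacter N θ) (ha : χ 1 = (a : ℂ))
    (hne : ∃ x ∈ N, χ x ≠ χ 1) (h : Cfsg.classInner (fun n : N => χ n) θ ≠ 0) :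
    ∃ e d, Over N χ θ a e d := by
  obtain ⟨d, hd0, hd⟩ := irr_one_pos hθ
  obtain ⟨e, he⟩ := classInner_char_nat (isCharacter_restrict N (isCharacter_of_isIrr hχ))
    (isCharacter_of_isIrr hθ)
  have h1 := Clifford.card_mul_degree N hχ hθ h (inertia N θ) fun g => mem_inertia N
  have h2 := Clifford.card_smul_restrict N hχ hθ h (inertia N θ) fun g => mem_inertia N
  rw [he] at h1 h2
  refine ⟨e, d, hχ, hθ, ha, hd, hne, ?_, h2⟩
  rw [ha, hd] at h1
  have h3 : Nat.card (inertia N θ) * a = e * (Nat.card G * d) := by exact_mod_cast h1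
  rw [← (inertia N θ).card_mul_index] at h3
  refine Nat.eq_of_mul_eq_mul_left (Nat.card_pos (α := inertia N θ)) ?_
  rw [h3]; ring

theorem exists_constituent_over [Fintype G] [Fintype N] {χ : G → ℂ} {a : ℕ}
    (hχ : Cfsg.IsIrrCharacter G χ) (ha : χ 1 = (a : ℂ)) (hne : ∃ x ∈ N, χ x ≠ χ 1) :
    ∃ θ e d, Over N χ θ a e d := by
  obtain ⟨θ, hθ, h⟩ := Cfsg.Agent.BlocksChars.IsaacsOdd.exists_constituent N hχ
  exact ⟨θ, over_of N hχ hθ ha hne h⟩

theorem deg_pos [Fintype G] {χ : G → ℂ} {θ : N → ℂ} {a e d : ℕ} (h : Over N χ θ a e d) :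
    0 < a := by
  obtain ⟨n, hn, hn'⟩ := irr_one_pos h.irr
  rw [h.deg] at hn'
  have : a = n := by exact_mod_cast hn'
  omega

theorem Over.mem_relCharDegrees [Fintype G] {χ : G → ℂ} {θ : N → ℂ} {a e d : ℕ}
    (h : Over N χ θ a e d) : a ∈ Cfsg.relCharDegrees N :=
  ⟨⟨χ, h.irr⟩, h.ne, by rw [Cfsg.charDegree]; simp [h.deg]⟩

/-- Every non-principal character of `N` lies under some character of `G` counted in `cd(G|N)`. -/
theorem exists_over [Fintype G] [Fintype N] {φ : N → ℂ} (hφ : Cfsg.IsIrrCharacter N φ)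
    (h1 : φ ≠ fun _ => 1) : ∃ χ b e d, Over N χ φ b e d := by
  obtain ⟨χ, hχ, h⟩ := Cfsg.Agent.BlocksChars.IsaacsOdd.exists_irr_over N hφ
  obtain ⟨b, -, hb⟩ := irr_one_pos hχ
  obtain ⟨e, d, ho⟩ := over_of N hχ hφ hb (by
    by_contra! hall
    refine h ?_
    have he : (fun n : N => χ n) = (b : ℂ) • (fun _ : N => (1 : ℂ)) := funext fun n => by
      show χ n = (b : ℂ) * 1
      rw [hall n n.2, hb, mul_one]
    rw [he, classInner_smul_left, classInner_isIrr_ne isIrrCharacter_one hφ h1.symm, mul_zero]) h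
  exact ⟨χ, b, e, d, ho⟩

/-- Where the conjugates of `θ` all take the same multiple of their degree, so does `χ`. -/
theorem Over.value [Fintype G] {χ : G → ℂ} {θ : N → ℂ} {a e d : ℕ} (h : Over N χ θ a e d) {n : N}
    {c : ℂ} (hc : ∀ x : G, Clifford.conjBy N x θ n = (d : ℂ) * c) : χ n = (a : ℂ) * c := by
  have h1 := congrFun h.restrict n
  simp only [Pi.smul_apply, Finset.sum_apply, smul_eq_mul, hc, Finset.sum_const, Finset.card_univ,
    nsmul_eq_mul, ← Nat.card_eq_fintype_card] at h1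
  refine mul_left_cancel₀ (Nat.cast_ne_zero.mpr (Nat.card_pos (α := inertia N θ)).ne') ?_
  rw [h1, h.eq_deg, ← (inertia N θ).card_mul_index]
  push_cast; ring

/-- The determinant of a character of `G` is trivial on subgroups of the derived group. -/
theorem detChar_eq_one [Finite G] (hNG : N ≤ commutator G) {χ : G → ℂ}
    (hχ : Cfsg.IsCharacter G χ) (n : N) : Cfsg.detChar χ (n : G) = 1 := by
  obtain ⟨h1, h2⟩ := ExtendChar.detChar_isLinear hχ
  obtain ⟨f, hf⟩ := ExtendChar.exists_hom h1 h2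
  rw [← hf, MonoidHom.mem_ker.mp (Abelianization.commutator_subset_ker f (hNG n.2)),
    Units.val_one]

theorem linear_degree_ne_one [Fintype G] (hNG : N ≤ commutator G) {χ : G → ℂ} {θ : N → ℂ}
    {a e d : ℕ} (h : Over N χ θ a e d) : a ≠ 1 := by
  rintro rfl
  obtain ⟨x, hx, hne⟩ := h.ne
  have h1 : χ 1 = 1 := by rw [h.deg, Nat.cast_one]
  obtain ⟨f, hf⟩ := ExtendChar.exists_hom (isCharacter_of_isIrr h.irr) h1
  apply hne
  rw [h1, ← hf, MonoidHom.mem_ker.mp (Abelianization.commutator_subset_ker f (hNG hx)),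
    Units.val_one]

/-- A linear character that all its conjugates agree with at `n` has `a`-th power one there. -/
theorem Over.pow_eq_one [Fintype G] (hNG : N ≤ commutator G) {χ : G → ℂ} {f : N →* ℂˣ}
    {a e d : ℕ} (h : Over N χ (fn f) a e d) {n : N} (hn : ∀ x : G, ch N x f n = f n) :
    f n ^ a = 1 := by
  have hd : (d : ℂ) = 1 := by rw [← h.degθ]; simp [fn]
  have hv : χ (n : G) = (a : ℂ) * fn f n := h.value N fun x => by
    rw [← fn_ch, hd, one_mul]; exact congrArg Units.val (hn x)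
  have h1 := detChar_scalar (isCharacter_of_isIrr h.irr) h.deg
    (linear_norm_eq_one f n) hv
  rw [detChar_eq_one N hNG (isCharacter_of_isIrr h.irr) n] at h1
  exact Units.ext (by rw [Units.val_pow_eq_pow_val, Units.val_one]; exact h1.symm)

end Cfsg.Agent.Components.CommonDivisor
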